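import Groth.Agent.Lib.KernelKL22.Frobenius
import Groth.Agent.Lib.AbDual22.Transpose
import Groth.Agent.Lib.Ample18.Ample
import Groth.Agent.Lib.RigidRel.Unital.Grp
import Groth.Agent.Lib.AbRigid.SmoothGI

/-!
# Pulling polarisations back along homomorphisms
-/

universe u

open CategoryTheory CategoryTheory.Limits MonoidalCategory CartesianMonoidalCategory AlgebraicGeometry

open scoped MonObj GrpObj

set_option linter.style.haveILetI false
set_option maxHeartbeats 1000000
set_option synthInstance.maxHeartbeats 400000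
set_option backward.isDefEq.respectTransparency false

noncomputable section

namespace Groth.Agent.PolPull22

open Groth.Agent.CubeField Groth.Agent.AbDual21 Groth.Agent.PicDesc21

noncomputable local instance instLawPolPull (Y : Scheme.{u}) : PicGrp.Law Y := M2.law Y

theorem bcDual_eq {S S' : Scheme.{u}} (β : S' ⟶ S) (A At : Over S) (φ : AgPol.DualMap A At) :
    AgPol.bcDual β A At φ = AbDual22.bcPhi β φ := by
  funext T c
  have h : (AgPol.bcXTIso β A T).inv = (AbDual22.bcIso β A T).inv := by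
    congr 1
  apply Over.OverMorphism.ext
  apply pullback.hom_ext <;> simp [AgPol.bcDual, AbDual22.bcPhi, Over.mapPullbackAdj, h] <;> rfl

variable {k : Type u} [Field k] {X Y Xt Yt : Over (Spec (CommRingCat.of k))} [GrpObj X] [GrpObj Y] [GrpObj Xt] [GrpObj Yt]
  [IsProper X.hom] [GeometricallyIntegral X.hom] [IsProper Y.hom] [GeometricallyIntegral Y.hom]
  {φX : ∀ T : Over (Spec (CommRingCat.of k)), PicF.Cl (PicF.XT X.hom T) → (T ⟶ Xt)}
  {φY : ∀ T : Over (Spec (CommRingCat.of k)), PicF.Cl (PicF.XT Y.hom T) → (T ⟶ Yt)}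
  (hX : AbDual.IsDualAV Scheme.fppfPrecoverage X Xt φX)

include hX in
/-- The homomorphism attached to a pulled back module. -/
theorem isLambda_pullback (f : X ⟶ Y) [IsMonHom f] {ft : Yt ⟶ Xt} (hft : AbDual.IsTranspose f φX φY ft)
    {L : Y.left.Modules} (hL : PicF.IsInvertible L) {lam : Y ⟶ Yt} (hlam : AgPol.IsLambda Y Yt φY L lam) :
    AgPol.IsLambda X Xt φX ((Scheme.Modules.pullback f.left).obj L) (f ≫ lam ≫ ft) := by
  obtain ⟨N, hN, hs, rfl⟩ := hlam
  let N₁ := (Scheme.Modules.pullback (f ▷ Y).left).obj N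
  let N' := (Scheme.Modules.pullback (X ◁ f).left).obj N₁
  have hN₁ : PicF.IsInvertible N₁ := PicLoc.isInvertible_pullback _ hN
  have hN' : PicF.IsInvertible N' := PicLoc.isInvertible_pullback _ hN₁
  have hf : PicF.IsInvertible ((Scheme.Modules.pullback f.left).obj L) := PicLoc.isInvertible_pullback _ hL
  have hc := KernelKL22.picZero_mum hL hN hs
  refine ⟨N', hN', ?_, ?_⟩
  · have e : PicGrp.cls _ hN' = PicGrp.pullHom (X ◁ f).left (M2.pullMul _)
        (PicGrp.pullHom (f ▷ Y).left (M2.pullMul _) (PicGrp.cls N hN)) := by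
      rw [PicGrp.pullHom_cls, PicGrp.pullHom_cls]
    have hP : ∀ z : X ⊗ X ⟶ X, P _ hf z = P L hL (z ≫ f) := fun z => by
      rw [← Category.comp_id z, ← pullHom_P, P_id, Category.comp_id]
      exact pullHom_P z f
    have h1 := congrArg (fun x => PicGrp.pullHom (X ◁ f).left (M2.pullMul _)
      (PicGrp.pullHom (f ▷ Y).left (M2.pullMul _) x)) (KernelKL22.mumford_eq hL hN hs)
    simp only [map_mul, pullHom_P, whiskerRight_fst, whiskerLeft_fst_assoc, whiskerRight_snd, whiskerLeft_snd] at h1
    have hm : (X ◁ f) ≫ (f ▷ Y) ≫ μ[Y] = μ[X] ≫ f := by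
      rw [← Category.assoc, whisker_exchange, ← MonoidalCategory.tensorHom_def]
      exact (IsMonHom.mul_hom f).symm
    rw [hm, ← e, ← hP, ← hP, ← hP] at h1
    replace h := congrArg Subtype.val h1
    simp only [P, PicGrp.mul_val, PicGrp.cls_val, PicGrp.mulCl_cl] at h
    exact (PicGrp.cl_eq_cl_iff _ _).1 h
  · haveI : Smooth X.hom := @smooth_of_grpObj k _ _ X.hom _ (show GrpObj (Over.mk X.hom) from ‹GrpObj X›) _
    haveI : GeometricallyConnected X.hom := Unital.geometricallyConnected_of_geometricallyIntegral X.hom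
    rw [show PicF.cl N' = PicF.pullCl (X ◁ f).left (PicF.pullCl (f ▷ Y).left (PicF.cl N)) by
      rw [PicLoc.pullCl_cl, PicLoc.pullCl_cl]]
    rw [phi_natural hX f (picZero_whiskerRight f hc), ← bcMap_eq, hft Y _ hc]

end Groth.Agent.PolPull22

end
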